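import Mathlib

/-!
# Corners of Azumaya algebras

For an idempotent `e` of an Azumaya algebra `A` over `R`, the corner ring `eAe` is (when faithful)
an Azumaya algebra, and `A ⊗ (eAe)ᵒᵖ ≅ End_R(Ae)`.  Also: ranks of finite projective modules over
connected rings.
-/

set_option autoImplicit false
open TensorProduct

namespace Groth.Agent.Helper19.CornerAzu

universe u

section Rank

variable {R : Type*} [CommRing R] (M : Type*) [AddCommGroup M] [Module R M]
  [Module.Finite R M] [Module.Projective R M]

theorem rankAtStalk_const [PreconnectedSpace (PrimeSpectrum R)] (p q : PrimeSpectrum R) :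
    Module.rankAtStalk M p = Module.rankAtStalk M q := by
  haveI : Module.FinitePresentation R M := Module.finitePresentation_of_projective R M
  exact (Module.isLocallyConstant_rankAtStalk (R := R) (M := M)).apply_eq_of_preconnectedSpace p q

theorem rankAtStalk_pos_of_nontrivial [PreconnectedSpace (PrimeSpectrum R)] [Nontrivial M]
    (p : PrimeSpectrum R) : 0 < Module.rankAtStalk M p := by
  by_contra h
  have h0 : Module.rankAtStalk M p = 0 := by omega
  have hall : Module.rankAtStalk (R := R) M = 0 := by
    funext q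
    show Module.rankAtStalk M q = 0
    rw [rankAtStalk_const M q p, h0]
  have := (Module.rankAtStalk_eq_zero_iff_subsingleton (R := R) (M := M)).mp hall
  exact not_subsingleton M this

theorem faithfulSMul_of_rankAtStalk_pos
    (h : ∀ p : PrimeSpectrum R, 0 < Module.rankAtStalk M p) : FaithfulSMul R M := by
  have key : ∀ r : R, (∀ m : M, r • m = 0) → r = 0 := by
    intro r hr
    apply eq_zero_of_localization
    intro J hJ
    haveI : J.IsPrime := hJ.isPrime
    haveI : Module.Free (Localization.AtPrime J) (LocalizedModule J.primeCompl M) :=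
      Module.free_of_flat_of_isLocalRing
    have hpos : 0 < Module.finrank (Localization.AtPrime J) (LocalizedModule J.primeCompl M) :=
      h ⟨J, inferInstance⟩
    let b := Module.Free.chooseBasis (Localization.AtPrime J) (LocalizedModule J.primeCompl M)
    haveI : Nonempty (Module.Free.ChooseBasisIndex (Localization.AtPrime J)
        (LocalizedModule J.primeCompl M)) := by
      by_contra hne
      rw [not_nonempty_iff] at hne
      rw [Module.finrank_eq_card_chooseBasisIndex] at hpos
      simp at hpos
    obtain ⟨i⟩ := this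
    have hz : ∀ x : LocalizedModule J.primeCompl M,
        (algebraMap R (Localization.AtPrime J) r) • x = 0 := by
      intro x
      induction x using LocalizedModule.induction_on with
      | h m s => rw [algebraMap_smul, LocalizedModule.smul'_mk, hr, LocalizedModule.zero_mk]
    have h1 : b.repr ((algebraMap R (Localization.AtPrime J) r) • b i) i = 0 := by
      rw [hz]; simp
    rw [map_smul, Finsupp.smul_apply, Module.Basis.repr_self, Finsupp.single_eq_same,
      smul_eq_mul, mul_one] at h1
    exact h1
  refine ⟨fun {r₁ r₂} h12 => ?_⟩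
  have := key (r₁ - r₂) (fun m => by rw [sub_smul, h12 m, sub_self])
  exact sub_eq_zero.mp this

end Rank

section Corner

variable {R : Type*} [CommRing R] {A : Type*} [Ring A] [Algebra R A] {e : A}
  (he : IsIdempotentElem e)

theorem e_mul (x : he.Corner) : e * x.1 = x.1 := ((Subsemigroup.mem_corner_iff he).mp x.2).1

theorem mul_e (x : he.Corner) : x.1 * e = x.1 := ((Subsemigroup.mem_corner_iff he).mp x.2).2

@[simp] theorem val_mul (x y : he.Corner) : (x * y).1 = x.1 * y.1 := rfl
@[simp] theorem val_add (x y : he.Corner) : (x + y).1 = x.1 + y.1 := rfl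
@[simp] theorem val_zero : (0 : he.Corner).1 = 0 := rfl
@[simp] theorem val_one : (1 : he.Corner).1 = e := rfl

instance instSMul : SMul R he.Corner :=
  ⟨fun r x => ⟨r • x.1, (Subsemigroup.mem_corner_iff he).mpr
    ⟨by rw [mul_smul_comm, e_mul], by rw [smul_mul_assoc, mul_e]⟩⟩⟩

@[simp] theorem val_smul (r : R) (x : he.Corner) : (r • x).1 = r • x.1 := rfl

/-- The inclusion of the corner, as an additive map. -/
def valAddHom : he.Corner →+ A where
  toFun x := x.1
  map_zero' := rfl
  map_add' _ _ := rfl

instance instModule : Module R he.Corner :=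
  Function.Injective.module R (valAddHom he) (fun _ _ h => Subtype.ext h) (fun _ _ => rfl)

instance instAlgebra : Algebra R he.Corner :=
  Algebra.ofModule (fun r x y => Subtype.ext (smul_mul_assoc r x.1 y.1))
    (fun r x y => Subtype.ext (mul_smul_comm r x.1 y.1))

/-- The inclusion `eAe → A`. -/
def incl : he.Corner →ₗ[R] A where
  toFun x := x.1
  map_add' _ _ := rfl
  map_smul' _ _ := rfl

@[simp] theorem incl_apply (x : he.Corner) : incl (R := R) he x = x.1 := rfl

/-- The compression `A → eAe`, `a ↦ eae`. -/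
def compr : A →ₗ[R] he.Corner where
  toFun a := ⟨e * a * e, a, rfl⟩
  map_add' a b := Subtype.ext (by
    show e * (a + b) * e = e * a * e + e * b * e
    rw [mul_add, add_mul])
  map_smul' r a := Subtype.ext (by
    show e * (r • a) * e = r • (e * a * e)
    rw [mul_smul_comm, smul_mul_assoc])

@[simp] theorem compr_val (a : A) : (compr (R := R) he a).1 = e * a * e := rfl

theorem compr_incl (x : he.Corner) : compr (R := R) he x.1 = x :=
  Subtype.ext (by show e * x.1 * e = x.1; rw [e_mul, mul_e])

theorem corner_finite [Module.Finite R A] : Module.Finite R he.Corner :=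
  Module.Finite.of_surjective (compr (R := R) he) (fun x => ⟨x.1, compr_incl he x⟩)

theorem corner_projective [Module.Projective R A] : Module.Projective R he.Corner :=
  Module.Projective.of_split (incl (R := R) he) (compr (R := R) he)
    (LinearMap.ext (compr_incl (R := R) he))

/-- The inclusion on opposites. -/
def inclOp : (he.Corner)ᵐᵒᵖ →ₗ[R] Aᵐᵒᵖ :=
  (MulOpposite.opLinearEquiv R).toLinearMap ∘ₗ incl (R := R) he ∘ₗ
    (MulOpposite.opLinearEquiv R).symm.toLinearMap

@[simp] theorem inclOp_apply (c : (he.Corner)ᵐᵒᵖ) :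
    inclOp (R := R) he c = MulOpposite.op c.unop.1 := rfl

/-- The compression on opposites. -/
def comprOp : Aᵐᵒᵖ →ₗ[R] (he.Corner)ᵐᵒᵖ :=
  (MulOpposite.opLinearEquiv R).toLinearMap ∘ₗ compr (R := R) he ∘ₗ
    (MulOpposite.opLinearEquiv R).symm.toLinearMap

@[simp] theorem comprOp_apply (c : Aᵐᵒᵖ) :
    comprOp (R := R) he c = MulOpposite.op (compr (R := R) he c.unop) := rfl

theorem comprOp_inclOp (c : (he.Corner)ᵐᵒᵖ) : comprOp (R := R) he (inclOp (R := R) he c) = c := by
  rw [inclOp_apply, comprOp_apply, MulOpposite.unop_op, compr_incl, MulOpposite.op_unop]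

/-- **The corner of an Azumaya algebra satisfies the Azumaya bijectivity.** -/
theorem mulLeftRight_bijective [IsAzumaya R A] :
    Function.Bijective (AlgHom.mulLeftRight R he.Corner) := by
  have hA : Function.Bijective (AlgHom.mulLeftRight R A) := IsAzumaya.bij
  let J : he.Corner ⊗[R] (he.Corner)ᵐᵒᵖ →ₗ[R] A ⊗[R] Aᵐᵒᵖ :=
    TensorProduct.map (incl (R := R) he) (inclOp (R := R) he)
  let Pm : A ⊗[R] Aᵐᵒᵖ →ₗ[R] he.Corner ⊗[R] (he.Corner)ᵐᵒᵖ :=
    TensorProduct.map (compr (R := R) he) (comprOp (R := R) he)
  have hPJ : ∀ z, Pm (J z) = z := by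
    intro z
    induction z using TensorProduct.induction_on with
    | zero => simp
    | tmul b c =>
      show (compr (R := R) he (incl (R := R) he b)) ⊗ₜ[R]
        (comprOp (R := R) he (inclOp (R := R) he c)) = b ⊗ₜ[R] c
      rw [comprOp_inclOp, incl_apply, compr_incl]
    | add x y hx hy => simp only [map_add, hx, hy]
  have f1 : ∀ (z : he.Corner ⊗[R] (he.Corner)ᵐᵒᵖ) (x : A),
      AlgHom.mulLeftRight R A (J z) x =
        (AlgHom.mulLeftRight R he.Corner z (compr (R := R) he x)).1 := by
    intro z x
    induction z using TensorProduct.induction_on with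
    | zero => simp
    | tmul b c =>
      have hJ : J (b ⊗ₜ[R] c) = (incl (R := R) he b) ⊗ₜ[R] (inclOp (R := R) he c) := rfl
      rw [hJ, AlgHom.mulLeftRight_apply, AlgHom.mulLeftRight_apply]
      show b.1 * x * c.unop.1 = b.1 * (e * x * e) * c.unop.1
      have h1 := mul_e he b
      have h2 := e_mul he c.unop
      calc b.1 * x * c.unop.1 = (b.1 * e) * x * (e * c.unop.1) := by rw [h1, h2]
        _ = b.1 * (e * x * e) * c.unop.1 := by simp only [mul_assoc]
    | add y z hy hz => simp only [map_add, LinearMap.add_apply, hy, hz, val_add]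
  have f2 : ∀ (w : A ⊗[R] Aᵐᵒᵖ) (y : he.Corner),
      (AlgHom.mulLeftRight R he.Corner (Pm w) y).1 = e * (AlgHom.mulLeftRight R A w y.1) * e := by
    intro w y
    induction w using TensorProduct.induction_on with
    | zero => simp
    | tmul a c =>
      have hP : Pm (a ⊗ₜ[R] c) = (compr (R := R) he a) ⊗ₜ[R] (comprOp (R := R) he c) := rfl
      rw [hP, AlgHom.mulLeftRight_apply, AlgHom.mulLeftRight_apply]
      show (e * a * e) * y.1 * (e * c.unop * e) = e * (a * y.1 * c.unop) * e
      have h1 := e_mul he y
      have h2 := mul_e he y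
      calc (e * a * e) * y.1 * (e * c.unop * e)
          = e * a * ((e * y.1) * e) * c.unop * e := by simp only [mul_assoc]
        _ = e * a * y.1 * c.unop * e := by rw [h1, h2]
        _ = e * (a * y.1 * c.unop) * e := by simp only [mul_assoc]
    | add y z hy hz =>
      simp only [map_add, LinearMap.add_apply, hy, hz, val_add, mul_add, add_mul]
  constructor
  · have hz : ∀ z, AlgHom.mulLeftRight R he.Corner z = 0 → z = 0 := by
      intro z hz
      have h0 : AlgHom.mulLeftRight R A (J z) = 0 := by
        apply LinearMap.ext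
        intro x
        rw [f1, hz]
        rfl
      have hJz : J z = 0 := hA.1 (by rw [h0, map_zero])
      rw [← hPJ z, hJz, map_zero]
    intro z₁ z₂ h
    have := hz (z₁ - z₂) (by rw [map_sub, h, sub_self])
    exact sub_eq_zero.mp this
  · intro θ
    let θ' : Module.End R A := incl (R := R) he ∘ₗ θ ∘ₗ compr (R := R) he
    obtain ⟨w, hw⟩ := hA.2 θ'
    refine ⟨Pm w, ?_⟩
    apply LinearMap.ext
    intro y
    apply Subtype.ext
    rw [f2, hw]
    show e * (θ (compr (R := R) he y.1)).1 * e = (θ y).1
    rw [compr_incl, e_mul, mul_e]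

end Corner

section LeftIdeal

variable (R : Type*) [CommRing R] {A : Type*} [Ring A] [Algebra R A]

/-- The left ideal `Ae`, as an `R`-submodule. -/
def Ae (e : A) : Submodule R A where
  carrier := {x | x * e = x}
  add_mem' := by
    intro a b ha hb
    have ha' : a * e = a := ha
    have hb' : b * e = b := hb
    show (a + b) * e = a + b
    rw [add_mul, ha', hb']
  zero_mem' := zero_mul e
  smul_mem' := by
    intro c x hx
    have hx' : x * e = x := hx
    show (c • x) * e = c • x
    rw [smul_mul_assoc, hx']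

/-- The right ideal `eA`, as an `R`-submodule. -/
def eA (e : A) : Submodule R A where
  carrier := {x | e * x = x}
  add_mem' := by
    intro a b ha hb
    have ha' : e * a = a := ha
    have hb' : e * b = b := hb
    show e * (a + b) = a + b
    rw [mul_add, ha', hb']
  zero_mem' := mul_zero e
  smul_mem' := by
    intro c x hx
    have hx' : e * x = x := hx
    show e * (c • x) = c • x
    rw [mul_smul_comm, hx']

variable {R} {e : A}

theorem Ae_mul_e (x : Ae R e) : x.1 * e = x.1 := x.2

theorem e_mul_eA (x : eA R e) : e * x.1 = x.1 := x.2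

/-- The retraction `A → Ae`, `x ↦ xe`. -/
def toAe (he : IsIdempotentElem e) : A →ₗ[R] Ae R e where
  toFun x := ⟨x * e, by show x * e * e = x * e; rw [mul_assoc, he.eq]⟩
  map_add' x y := Subtype.ext (by show (x + y) * e = x * e + y * e; rw [add_mul])
  map_smul' r x := Subtype.ext (by show (r • x) * e = r • (x * e); rw [smul_mul_assoc])

@[simp] theorem toAe_val (he : IsIdempotentElem e) (x : A) : (toAe (R := R) he x).1 = x * e := rfl

theorem toAe_self (he : IsIdempotentElem e) (q : Ae R e) : toAe (R := R) he q.1 = q :=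
  Subtype.ext (Ae_mul_e q)

/-- The retraction `A → eA`, `x ↦ ex`. -/
def toeA (he : IsIdempotentElem e) : A →ₗ[R] eA R e where
  toFun x := ⟨e * x, by show e * (e * x) = e * x; rw [← mul_assoc, he.eq]⟩
  map_add' x y := Subtype.ext (by show e * (x + y) = e * x + e * y; rw [mul_add])
  map_smul' r x := Subtype.ext (by show e * (r • x) = r • (e * x); rw [mul_smul_comm])

theorem toeA_self (he : IsIdempotentElem e) (q : eA R e) : toeA (R := R) he q.1 = q :=
  Subtype.ext (e_mul_eA q)

theorem Ae_finite (he : IsIdempotentElem e) [Module.Finite R A] : Module.Finite R (Ae R e) :=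
  Module.Finite.of_surjective (toAe (R := R) he) (fun q => ⟨q.1, toAe_self he q⟩)

theorem Ae_projective (he : IsIdempotentElem e) [Module.Projective R A] :
    Module.Projective R (Ae R e) :=
  Module.Projective.of_split (Ae R e).subtype (toAe (R := R) he) (LinearMap.ext (toAe_self he))

theorem eA_finite (he : IsIdempotentElem e) [Module.Finite R A] : Module.Finite R (eA R e) :=
  Module.Finite.of_surjective (toeA (R := R) he) (fun q => ⟨q.1, toeA_self he q⟩)

theorem eA_projective (he : IsIdempotentElem e) [Module.Projective R A] :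
    Module.Projective R (eA R e) :=
  Module.Projective.of_split (eA R e).subtype (toeA (R := R) he) (LinearMap.ext (toeA_self he))

/-- For orthogonal idempotents `g, h`: `(g+h)A ≅ gA × hA`. -/
def eA_add_equiv (g h : A) (hg : g * g = g) (hh : h * h = h) (hgh : g * h = 0) (hhg : h * g = 0) :
    eA R (g + h) ≃ₗ[R] eA R g × eA R h where
  toFun x := (⟨g * x.1, by show g * (g * x.1) = g * x.1; rw [← mul_assoc, hg]⟩,
    ⟨h * x.1, by show h * (h * x.1) = h * x.1; rw [← mul_assoc, hh]⟩)
  map_add' x y := Prod.ext (Subtype.ext (by show g * (x.1 + y.1) = g * x.1 + g * y.1; rw [mul_add]))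
    (Subtype.ext (by show h * (x.1 + y.1) = h * x.1 + h * y.1; rw [mul_add]))
  map_smul' r x := Prod.ext
    (Subtype.ext (by show g * (r • x.1) = r • (g * x.1); rw [mul_smul_comm]))
    (Subtype.ext (by show h * (r • x.1) = r • (h * x.1); rw [mul_smul_comm]))
  invFun yz := ⟨yz.1.1 + yz.2.1, by
    have h1 : g * yz.1.1 = yz.1.1 := yz.1.2
    have h2 : h * yz.2.1 = yz.2.1 := yz.2.2
    show (g + h) * (yz.1.1 + yz.2.1) = yz.1.1 + yz.2.1
    have h3 : g * yz.2.1 = 0 := by rw [← h2, ← mul_assoc, hgh, zero_mul]
    have h4 : h * yz.1.1 = 0 := by rw [← h1, ← mul_assoc, hhg, zero_mul]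
    rw [add_mul, mul_add, mul_add, h1, h2, h3, h4, add_zero, zero_add]⟩
  left_inv x := Subtype.ext (by
    have hx : (g + h) * x.1 = x.1 := x.2
    show g * x.1 + h * x.1 = x.1
    rw [← add_mul, hx])
  right_inv yz := by
    have h1 : g * yz.1.1 = yz.1.1 := yz.1.2
    have h2 : h * yz.2.1 = yz.2.1 := yz.2.2
    have h3 : g * yz.2.1 = 0 := by rw [← h2, ← mul_assoc, hgh, zero_mul]
    have h4 : h * yz.1.1 = 0 := by rw [← h1, ← mul_assoc, hhg, zero_mul]
    refine Prod.ext (Subtype.ext ?_) (Subtype.ext ?_)
    · show g * (yz.1.1 + yz.2.1) = yz.1.1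
      rw [mul_add, h1, h3, add_zero]
    · show h * (yz.1.1 + yz.2.1) = yz.2.1
      rw [mul_add, h4, h2, zero_add]

end LeftIdeal

section EndAe

variable {R : Type*} [CommRing R] {A : Type*} [Ring A] [Algebra R A] {e : A}
  (he : IsIdempotentElem e)

/-- Left multiplication on `Ae`. -/
def lmulAe (a : A) : Module.End R (Ae R e) where
  toFun x := ⟨a * x.1, by show a * x.1 * e = a * x.1; rw [mul_assoc, Ae_mul_e]⟩
  map_add' x y := Subtype.ext (by show a * (x.1 + y.1) = a * x.1 + a * y.1; rw [mul_add])
  map_smul' r x := Subtype.ext (by show a * (r • x.1) = r • (a * x.1); rw [mul_smul_comm])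

@[simp] theorem lmulAe_val (a : A) (x : Ae R e) : (lmulAe (R := R) a x).1 = a * x.1 := rfl

/-- Right multiplication by an element of the corner on `Ae`. -/
def rmulAe (b : he.Corner) : Module.End R (Ae R e) where
  toFun x := ⟨x.1 * b.1, by show x.1 * b.1 * e = x.1 * b.1; rw [mul_assoc, mul_e]⟩
  map_add' x y := Subtype.ext (by show (x.1 + y.1) * b.1 = x.1 * b.1 + y.1 * b.1; rw [add_mul])
  map_smul' r x := Subtype.ext (by show (r • x.1) * b.1 = r • (x.1 * b.1); rw [smul_mul_assoc])

@[simp] theorem rmulAe_val (b : he.Corner) (x : Ae R e) :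
    (rmulAe (R := R) he b x).1 = x.1 * b.1 := rfl

/-- Left multiplication, as an algebra map `A → End_R(Ae)`. -/
def lmulAlgHom : A →ₐ[R] Module.End R (Ae R e) where
  toFun := lmulAe (R := R) (e := e)
  map_one' := LinearMap.ext fun x => Subtype.ext (by
    show (1 : A) * x.1 = x.1
    rw [one_mul])
  map_mul' a b := LinearMap.ext fun x => Subtype.ext (by
    show a * b * x.1 = a * (b * x.1)
    rw [mul_assoc])
  map_zero' := LinearMap.ext fun x => Subtype.ext (by
    show (0 : A) * x.1 = 0
    rw [zero_mul])
  map_add' a b := LinearMap.ext fun x => Subtype.ext (by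
    show (a + b) * x.1 = a * x.1 + b * x.1
    rw [add_mul])
  commutes' r := LinearMap.ext fun x => Subtype.ext (by
    rw [Module.algebraMap_end_apply]
    show algebraMap R A r * x.1 = r • x.1
    rw [Algebra.smul_def])

/-- Right multiplication, as an algebra map `(eAe)ᵒᵖ → End_R(Ae)`. -/
def rmulAlgHom : (he.Corner)ᵐᵒᵖ →ₐ[R] Module.End R (Ae R e) where
  toFun c := rmulAe (R := R) he c.unop
  map_one' := LinearMap.ext fun x => Subtype.ext (by
    show x.1 * e = x.1
    exact Ae_mul_e x)
  map_mul' c d := LinearMap.ext fun x => Subtype.ext (by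
    show x.1 * (d.unop.1 * c.unop.1) = (x.1 * d.unop.1) * c.unop.1
    rw [mul_assoc])
  map_zero' := LinearMap.ext fun x => Subtype.ext (by
    show x.1 * (0 : A) = 0
    rw [mul_zero])
  map_add' c d := LinearMap.ext fun x => Subtype.ext (by
    show x.1 * (c.unop.1 + d.unop.1) = x.1 * c.unop.1 + x.1 * d.unop.1
    rw [mul_add])
  commutes' r := LinearMap.ext fun x => Subtype.ext (by
    rw [Module.algebraMap_end_apply]
    show x.1 * (algebraMap R he.Corner r).1 = r • x.1
    rw [Algebra.algebraMap_eq_smul_one]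
    show x.1 * (r • e) = r • x.1
    rw [mul_smul_comm, Ae_mul_e])

/-- The canonical map `A ⊗ (eAe)ᵒᵖ → End_R(Ae)`. -/
def Psi : A ⊗[R] (he.Corner)ᵐᵒᵖ →ₐ[R] Module.End R (Ae R e) :=
  Algebra.TensorProduct.lift (lmulAlgHom (R := R) (e := e)) (rmulAlgHom (R := R) he)
    (fun a c => LinearMap.ext fun x => Subtype.ext (by
      show a * (x.1 * c.unop.1) = (a * x.1) * c.unop.1
      rw [mul_assoc]))

theorem Psi_tmul_val (a : A) (c : (he.Corner)ᵐᵒᵖ) (x : Ae R e) :
    (Psi (R := R) he (a ⊗ₜ[R] c) x).1 = a * (x.1 * c.unop.1) := rfl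

/-- **`A ⊗ (eAe)ᵒᵖ ≅ End_R(Ae)` for an Azumaya algebra `A`.** -/
theorem Psi_bijective [IsAzumaya R A] : Function.Bijective (Psi (R := R) he) := by
  have hA : Function.Bijective (AlgHom.mulLeftRight R A) := IsAzumaya.bij
  let J : A ⊗[R] (he.Corner)ᵐᵒᵖ →ₗ[R] A ⊗[R] Aᵐᵒᵖ :=
    TensorProduct.map LinearMap.id (inclOp (R := R) he)
  let Pm : A ⊗[R] Aᵐᵒᵖ →ₗ[R] A ⊗[R] (he.Corner)ᵐᵒᵖ :=
    TensorProduct.map LinearMap.id (comprOp (R := R) he)
  have hPJ : ∀ z, Pm (J z) = z := by
    intro z
    induction z using TensorProduct.induction_on with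
    | zero => simp
    | tmul b c =>
      show b ⊗ₜ[R] (comprOp (R := R) he (inclOp (R := R) he c)) = b ⊗ₜ[R] c
      rw [comprOp_inclOp]
    | add x y hx hy => simp only [map_add, hx, hy]
  have f3 : ∀ (z : A ⊗[R] (he.Corner)ᵐᵒᵖ) (x : A),
      AlgHom.mulLeftRight R A (J z) x = (Psi (R := R) he z (toAe (R := R) he x)).1 := by
    intro z x
    induction z using TensorProduct.induction_on with
    | zero => simp
    | tmul a c =>
      have hJ : J (a ⊗ₜ[R] c) = a ⊗ₜ[R] (inclOp (R := R) he c) := rfl
      rw [hJ, AlgHom.mulLeftRight_apply, Psi_tmul_val]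
      show a * x * c.unop.1 = a * ((x * e) * c.unop.1)
      have h2 := e_mul he c.unop
      calc a * x * c.unop.1 = a * x * (e * c.unop.1) := by rw [h2]
        _ = a * ((x * e) * c.unop.1) := by simp only [mul_assoc]
    | add y z hy hz =>
      simp only [map_add, LinearMap.add_apply, hy, hz, Submodule.coe_add]
  have f4 : ∀ (w : A ⊗[R] Aᵐᵒᵖ) (q : Ae R e),
      (Psi (R := R) he (Pm w) q).1 = (AlgHom.mulLeftRight R A w q.1) * e := by
    intro w q
    induction w using TensorProduct.induction_on with
    | zero => simp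
    | tmul a c =>
      have hP : Pm (a ⊗ₜ[R] c) = a ⊗ₜ[R] (comprOp (R := R) he c) := rfl
      rw [hP, AlgHom.mulLeftRight_apply, Psi_tmul_val]
      show a * (q.1 * (e * c.unop * e)) = a * q.1 * c.unop * e
      have h1 := Ae_mul_e q
      calc a * (q.1 * (e * c.unop * e)) = a * ((q.1 * e) * c.unop * e) := by
            simp only [mul_assoc]
        _ = a * q.1 * c.unop * e := by rw [h1]; simp only [mul_assoc]
    | add y z hy hz =>
      simp only [map_add, LinearMap.add_apply, hy, hz, Submodule.coe_add, add_mul]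
  constructor
  · rw [injective_iff_map_eq_zero]
    intro z hz
    have h0 : AlgHom.mulLeftRight R A (J z) = 0 := by
      apply LinearMap.ext
      intro x
      rw [f3, hz]
      rfl
    have hJz : J z = 0 := hA.1 (by rw [h0, map_zero])
    rw [← hPJ z, hJz, map_zero]
  · intro θ
    let θ' : Module.End R A := (Ae R e).subtype ∘ₗ θ ∘ₗ toAe (R := R) he
    obtain ⟨w, hw⟩ := hA.2 θ'
    refine ⟨Pm w, ?_⟩
    apply LinearMap.ext
    intro q
    apply Subtype.ext
    rw [f4, hw]
    show (θ (toAe (R := R) he q.1)).1 * e = (θ q).1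
    rw [toAe_self, Ae_mul_e]

end EndAe

end Groth.Agent.Helper19.CornerAzu
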