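import Mathlib
import Groth.Agent.Lib.Helper19.Brauer.CornerAzu

/-!
# Over a connected ring, every Brauer class is represented by an Azumaya algebra with only
trivial idempotents
-/

set_option autoImplicit false
open TensorProduct

namespace Groth.Agent.Helper19.CornerAzu

universe u

theorem exists_brauerEquivalent_idempotents_trivial {R : Type u} [CommRing R]
    [ConnectedSpace (PrimeSpectrum R)] (A : Type u) [Ring A] [Algebra R A] [IsAzumaya R A] :
    ∃ (B : Type u) (_ : Ring B) (_ : Algebra R B) (_ : IsAzumaya R B) (P Q : Type u)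
      (_ : AddCommGroup P) (_ : Module R P) (_ : AddCommGroup Q) (_ : Module R Q),
      (∀ b : B, IsIdempotentElem b → b = 0 ∨ b = 1) ∧ Module.Finite R P ∧ Module.Projective R P ∧
      FaithfulSMul R P ∧ Module.Finite R Q ∧ Module.Projective R Q ∧ FaithfulSMul R Q ∧
      Nonempty (A ⊗[R] Module.End R P ≃ₐ[R] B ⊗[R] Module.End R Q) := by
  classical
  haveI : Nontrivial R := PrimeSpectrum.nonempty_iff_nontrivial.mp inferInstance
  haveI : Nontrivial A := (FaithfulSMul.algebraMap_injective R A).nontrivial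
  obtain ⟨p₀⟩ : Nonempty (PrimeSpectrum R) := inferInstance
  obtain ⟨e, ⟨he, he0⟩, hmin⟩ :=
    (measure fun g : A => Module.rankAtStalk (R := R) (eA R g) p₀).wf.has_min
      {g : A | IsIdempotentElem g ∧ g ≠ 0} ⟨1, IsIdempotentElem.one, one_ne_zero⟩
  -- the corner
  haveI : Nontrivial he.Corner :=
    ⟨⟨0, 1, fun h => he0 (congrArg Subtype.val h).symm⟩⟩
  haveI := corner_finite (R := R) he
  haveI := corner_projective (R := R) he
  haveI hf1 := faithfulSMul_of_rankAtStalk_pos (R := R) he.Corner
    (fun p => rankAtStalk_pos_of_nontrivial _ p)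
  have hAz : IsAzumaya R he.Corner := { bij := mulLeftRight_bijective he }
  -- the left ideal
  haveI := Ae_finite (R := R) he
  haveI := Ae_projective (R := R) he
  haveI : Nontrivial (Ae R e) :=
    ⟨⟨⟨e, he.eq⟩, 0, fun h => he0 (congrArg Subtype.val h)⟩⟩
  haveI hf2 := faithfulSMul_of_rankAtStalk_pos (R := R) (Ae R e)
    (fun p => rankAtStalk_pos_of_nontrivial _ p)
  refine ⟨he.Corner, inferInstance, inferInstance, hAz, he.Corner, Ae R e, inferInstance,
    inferInstance, inferInstance, inferInstance, ?_, inferInstance, inferInstance, hf1,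
    inferInstance, inferInstance, hf2, ?_⟩
  · -- idempotents of the corner are trivial
    intro b hb
    by_contra hcon
    push Not at hcon
    obtain ⟨hb0, hb1⟩ := hcon
    have hbb : b.1 * b.1 = b.1 := congrArg Subtype.val hb.eq
    have heb : e * b.1 = b.1 := e_mul he b
    have hbe : b.1 * e = b.1 := mul_e he b
    have hb0' : b.1 ≠ 0 := fun h => hb0 (Subtype.ext h)
    have hb1' : b.1 ≠ e := fun h => hb1 (Subtype.ext h)
    have hhh : (e - b.1) * (e - b.1) = e - b.1 := by
      rw [mul_sub, sub_mul, sub_mul, he.eq, hbe, heb, hbb, sub_self, sub_zero]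
    have hbh : b.1 * (e - b.1) = 0 := by rw [mul_sub, hbe, hbb, sub_self]
    have hhb : (e - b.1) * b.1 = 0 := by rw [sub_mul, heb, hbb, sub_self]
    have hh0 : e - b.1 ≠ 0 := fun h0 => hb1' (sub_eq_zero.mp h0).symm
    have hsum : b.1 + (e - b.1) = e := by abel
    have equiv := eA_add_equiv (R := R) b.1 (e - b.1) hbb hhh hbh hhb
    rw [hsum] at equiv
    haveI := eA_finite (R := R) he
    haveI := eA_projective (R := R) he
    haveI := eA_finite (R := R) (e := b.1) hbb
    haveI := eA_projective (R := R) (e := b.1) hbb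
    haveI := eA_finite (R := R) (e := e - b.1) hhh
    haveI := eA_projective (R := R) (e := e - b.1) hhh
    haveI : Nontrivial (eA R (e - b.1)) :=
      ⟨⟨⟨e - b.1, hhh⟩, 0, fun h => hh0 (congrArg Subtype.val h)⟩⟩
    have hrank : Module.rankAtStalk (R := R) (eA R e) p₀ =
        Module.rankAtStalk (R := R) (eA R b.1) p₀ +
          Module.rankAtStalk (R := R) (eA R (e - b.1)) p₀ := by
      have h1 := congrFun (Module.rankAtStalk_eq_of_equiv equiv) p₀
      have h2 := congrFun (Module.rankAtStalk_prod (R := R) (eA R b.1) (eA R (e - b.1))) p₀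
      rw [h1, h2]
      rfl
    have hpos : 0 < Module.rankAtStalk (R := R) (eA R (e - b.1)) p₀ :=
      rankAtStalk_pos_of_nontrivial _ p₀
    have hlt : Module.rankAtStalk (R := R) (eA R b.1) p₀ <
        Module.rankAtStalk (R := R) (eA R e) p₀ := by omega
    exact hmin b.1 ⟨hbb, hb0'⟩ hlt
  · -- the Brauer equivalence
    let α : Module.End R he.Corner ≃ₐ[R] he.Corner ⊗[R] (he.Corner)ᵐᵒᵖ :=
      (AlgEquiv.ofBijective (AlgHom.mulLeftRight R he.Corner) (mulLeftRight_bijective he)).symm
    let β : A ⊗[R] (he.Corner)ᵐᵒᵖ ≃ₐ[R] Module.End R (Ae R e) :=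
      AlgEquiv.ofBijective (Psi (R := R) he) (Psi_bijective he)
    exact ⟨(Algebra.TensorProduct.congr AlgEquiv.refl α).trans
      ((Algebra.TensorProduct.leftComm R A he.Corner (he.Corner)ᵐᵒᵖ).trans
        (Algebra.TensorProduct.congr AlgEquiv.refl β))⟩

end Groth.Agent.Helper19.CornerAzu
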